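import Cfsg.Agent.Lib.Amalgams.SymFour
import Cfsg.Agent.Lib.Signalizer.Generation
import Cfsg.Agent.Lib.ThompsonJ.ElemAbelian
import Cfsg.Agent.Lib.Cores.Fitting
import Cfsg.Agent.Lib.Cores.PCore

/-!
Actions of `S₄`-free solvable groups on elementary abelian normal `2`-subgroups: the squared
offender bound modulo the `2`-radical of the action.
-/

set_option autoImplicit false
set_option linter.style.haveILetI false

namespace CfsgLib.SFourFree

open Cfsg

universe u

section Defs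

variable {L : Type u} [Group L]

/-- `A` acts on `U` as an elementary abelian 2-group. -/
def ElemMod (A U : Subgroup L) : Prop :=
  (∀ a ∈ A, a ^ 2 ∈ Subgroup.centralizer (U : Set L)) ∧
    ∀ a ∈ A, ∀ b ∈ A, a * b * a⁻¹ * b⁻¹ ∈ Subgroup.centralizer (U : Set L)

/-- The order of the group induced by `A` on `U`. -/
noncomputable def actCard (A U : Subgroup L) : ℕ :=
  (A ⊓ Subgroup.centralizer (U : Set L)).relIndex A

/-- The index in `U` of the fixed points of `A`. -/
noncomputable def fixIdx (A U : Subgroup L) : ℕ :=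
  (U ⊓ Subgroup.centralizer (A : Set L)).relIndex U

/-- The largest normal subgroup inducing a 2-group on the normal subgroup `U`. -/
def rad2 (U : Subgroup L) [U.Normal] : Subgroup L :=
  (pCore 2 (L ⧸ Subgroup.centralizer (U : Set L))).comap
    (QuotientGroup.mk' (Subgroup.centralizer (U : Set L)))

instance rad2_normal (U : Subgroup L) [U.Normal] : (rad2 U).Normal :=
  Subgroup.Normal.comap inferInstance _

theorem ElemMod.mono {A B U : Subgroup L} (h : ElemMod A U) (hB : B ≤ A) : ElemMod B U :=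
  ⟨fun a ha => h.1 a (hB ha), fun a ha b hb => h.2 a (hB ha) b (hB hb)⟩

theorem ElemMod.of_le {A U V : Subgroup L} (h : ElemMod A U) (hV : V ≤ U) : ElemMod A V :=
  ⟨fun a ha => Subgroup.centralizer_le hV (h.1 a ha),
    fun a ha b hb => Subgroup.centralizer_le hV (h.2 a ha b hb)⟩

theorem elemMod_of_isElementaryAbelian {A : Subgroup L} (hA : IsElementaryAbelian 2 A)
    (U : Subgroup L) : ElemMod A U :=
  ⟨fun a ha => by rw [hA.2 a ha]; exact one_mem _,
    fun a ha b hb => by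
      rw [CfsgLib.ThompsonJ.isElementaryAbelian_comm hA ha hb, mul_inv_cancel_right, mul_inv_cancel]
      exact one_mem _⟩

theorem conj_eq_of_mem_centralizer {U : Subgroup L} {g w : L}
    (hg : g ∈ Subgroup.centralizer (U : Set L)) (hw : w ∈ U) : g * w * g⁻¹ = w := by
  rw [(Subgroup.mem_centralizer_iff.1 hg w hw).symm, mul_inv_cancel_right]

theorem mem_centralizer_of_conj_eq {U : Subgroup L} {g : L} (h : ∀ w ∈ U, g * w * g⁻¹ = w) :
    g ∈ Subgroup.centralizer (U : Set L) :=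
  Subgroup.mem_centralizer_iff.2 fun w hw => (mul_inv_eq_iff_eq_mul.1 (h w hw)).symm

theorem map_mem_centralizer {M : Type*} [Group M] (f : L →* M) {U : Subgroup L} {g : L}
    (hg : g ∈ Subgroup.centralizer (U : Set L)) :
    f g ∈ Subgroup.centralizer (U.map f : Set M) := by
  rw [Subgroup.mem_centralizer_iff]
  rintro _ ⟨w, hw, rfl⟩
  rw [← map_mul, ← map_mul, Subgroup.mem_centralizer_iff.1 hg w hw]

theorem ElemMod.map {M : Type*} [Group M] {A U : Subgroup L} (h : ElemMod A U) (f : L →* M) :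
    ElemMod (A.map f) (U.map f) := by
  refine ⟨?_, ?_⟩
  · rintro _ ⟨a, ha, rfl⟩
    rw [← map_pow]
    exact map_mem_centralizer f (h.1 a ha)
  · rintro _ ⟨a, ha, rfl⟩ _ ⟨b, hb, rfl⟩
    rw [← map_inv, ← map_inv, ← map_mul, ← map_mul, ← map_mul]
    exact map_mem_centralizer f (h.2 a ha b hb)

theorem pow_eq_one_of_coprime_pow {g : L} {m n : ℕ} (hm : g ^ m = 1) (hn : g ^ n = 1)
    (h : m.Coprime n) : g = 1 := by
  have := pow_gcd_eq_one.2 ⟨hm, hn⟩
  rwa [h.gcd_eq_one, pow_one] at this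

theorem mem_of_pow_mem_coprime {H : Subgroup L} {g : L} {m n : ℕ} (hm : g ^ m ∈ H)
    (hn : g ^ n ∈ H) (h : m.Coprime n) : g ∈ H := by
  have h1 : (m : ℤ) * m.gcdA n + n * m.gcdB n = 1 := by
    rw [← Nat.gcd_eq_gcd_ab, h.gcd_eq_one]; rfl
  rw [← zpow_one g, ← h1, zpow_add, zpow_mul, zpow_mul, zpow_natCast, zpow_natCast]
  exact mul_mem (zpow_mem hm _) (zpow_mem hn _)

/-- An element fixing `N₀` and acting trivially on `N₁/N₀` squares to an element fixing `N₁`. -/
theorem sq_mem_centralizer {N₀ N₁ : Subgroup L} (hexp : ∀ w ∈ N₀, w ^ 2 = 1) {g : L}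
    (h0 : g ∈ Subgroup.centralizer (N₀ : Set L))
    (h1 : ∀ w ∈ N₁, g * w * g⁻¹ * w⁻¹ ∈ N₀) :
    g ^ 2 ∈ Subgroup.centralizer (N₁ : Set L) := by
  refine mem_centralizer_of_conj_eq fun w hw => ?_
  set d := g * w * g⁻¹ * w⁻¹ with hd
  have e1 : g * w * g⁻¹ = d * w := by rw [hd]; group
  have hdN : d ∈ N₀ := h1 w hw
  calc g ^ 2 * w * (g ^ 2)⁻¹ = g * (g * w * g⁻¹) * g⁻¹ := by rw [pow_two]; group
    _ = g * (d * w) * g⁻¹ := by rw [e1]
    _ = (g * d * g⁻¹) * (g * w * g⁻¹) := by group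
    _ = d * (d * w) := by rw [conj_eq_of_mem_centralizer h0 hdN, e1]
    _ = w := by rw [← mul_assoc, ← pow_two, hexp d hdN, one_mul]

end Defs

section Finite

variable {L : Type u} [Group L] [Finite L]

theorem relIndex_sup_eq {H K : Subgroup L} (h : K ≤ Subgroup.normalizer (H : Set L)) :
    H.relIndex (H ⊔ K) = H.relIndex K := by
  have hsup : H ⊔ K ≤ Subgroup.normalizer (H : Set L) := sup_le Subgroup.le_normalizer h
  haveI : (H.subgroupOf (H ⊔ K)).Normal := Subgroup.normal_subgroupOf_of_le_normalizer hsup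
  have hs : (H ⊔ K).subgroupOf (H ⊔ K) = H.subgroupOf (H ⊔ K) ⊔ K.subgroupOf (H ⊔ K) :=
    Subgroup.subgroupOf_sup le_sup_left le_sup_right
  rw [Subgroup.subgroupOf_self] at hs
  calc H.relIndex (H ⊔ K) = (H.subgroupOf (H ⊔ K)).relIndex ⊤ := (Subgroup.relIndex_top_right _).symm
    _ = (H.subgroupOf (H ⊔ K)).relIndex (K.subgroupOf (H ⊔ K)) := by
        rw [hs, sup_comm (H.subgroupOf (H ⊔ K)), Subgroup.relIndex_sup_right]
    _ = H.relIndex K := Subgroup.relIndex_subgroupOf le_sup_right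

theorem relIndex_pos (H K : Subgroup L) : 0 < H.relIndex K :=
  Nat.pos_of_ne_zero Subgroup.index_ne_zero_of_finite

theorem relIndex_le_of_le_left {H K : Subgroup L} (h : H ≤ K) (M : Subgroup L) :
    K.relIndex M ≤ H.relIndex M :=
  Nat.le_of_dvd (relIndex_pos H M) (Subgroup.relIndex_dvd_of_le_left M h)

theorem le_normalizer_of_elem {X U : Subgroup L} (hU : IsElementaryAbelian 2 U) (hX : X ≤ U) :
    U ≤ Subgroup.normalizer (X : Set L) :=
  ((CfsgLib.ThompsonJ.isElementaryAbelian_le_centralizer hU).trans (Subgroup.centralizer_le hX)).trans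
    (Subgroup.centralizer_le_normalizer _)

theorem fixIdx_pos (A U : Subgroup L) : 0 < fixIdx A U := relIndex_pos _ _

theorem fixIdx_le_of_le {A B U : Subgroup L} (h : B ≤ A) : fixIdx B U ≤ fixIdx A U :=
  relIndex_le_of_le_left (inf_le_inf_left U (Subgroup.centralizer_le h)) U

theorem actCard_mul {A B U : Subgroup L} (hB : B ≤ A)
    (hC : A ⊓ Subgroup.centralizer (U : Set L) ≤ B) :
    actCard B U * B.relIndex A = actCard A U := by
  unfold actCard
  have : B ⊓ Subgroup.centralizer (U : Set L) = A ⊓ Subgroup.centralizer (U : Set L) :=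
    le_antisymm (inf_le_inf_right _ hB) (le_inf hC inf_le_right)
  rw [this]
  exact Subgroup.relIndex_mul_relIndex _ _ _ hC hB

theorem actCard_eq_card_map (A U : Subgroup L) [U.Normal] :
    actCard A U = Nat.card (A.map (QuotientGroup.mk' (Subgroup.centralizer (U : Set L)))) := by
  unfold actCard
  rw [Subgroup.inf_relIndex_left]
  conv_lhs => rw [← QuotientGroup.ker_mk' (Subgroup.centralizer (U : Set L))]
  rw [Subgroup.relIndex_ker]

theorem exists_pow_mem_of_mem_rad2 {U : Subgroup L} [U.Normal] {n : L} (hn : n ∈ rad2 U) :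
    ∃ k : ℕ, n ^ 2 ^ k ∈ Subgroup.centralizer (U : Set L) := by
  obtain ⟨k, hk⟩ := CfsgLib.Cores.isPGroup_pCore 2 (L ⧸ Subgroup.centralizer (U : Set L))
    ⟨_, Subgroup.mem_comap.1 hn⟩
  refine ⟨k, (QuotientGroup.eq_one_iff _).1 ?_⟩
  rw [← QuotientGroup.mk'_apply, map_pow]
  exact congrArg Subtype.val hk

theorem le_rad2 {U N : Subgroup L} [U.Normal] [N.Normal]
    (h : ∀ n ∈ N, ∃ k : ℕ, n ^ 2 ^ k ∈ Subgroup.centralizer (U : Set L)) : N ≤ rad2 U := by
  rw [rad2, ← Subgroup.map_le_iff_le_comap]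
  haveI : (N.map (QuotientGroup.mk' (Subgroup.centralizer (U : Set L)))).Normal :=
    Subgroup.Normal.map inferInstance _ (QuotientGroup.mk'_surjective _)
  refine CfsgLib.Cores.le_pCore ?_
  rintro ⟨_, n, hn, rfl⟩
  obtain ⟨k, hk⟩ := h n hn
  refine ⟨k, Subtype.ext ?_⟩
  show (QuotientGroup.mk' (Subgroup.centralizer (U : Set L)) n) ^ 2 ^ k = 1
  rw [← map_pow, QuotientGroup.mk'_apply, QuotientGroup.eq_one_iff]
  exact hk

theorem centralizer_le_rad2 (U : Subgroup L) [U.Normal] :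
    Subgroup.centralizer (U : Set L) ≤ rad2 U :=
  le_rad2 fun n hn => ⟨0, by simpa using hn⟩

theorem rad2_le_rad2 {U V : Subgroup L} [U.Normal] [V.Normal] (h : V ≤ U) : rad2 U ≤ rad2 V :=
  le_rad2 fun _ hn => by
    obtain ⟨k, hk⟩ := exists_pow_mem_of_mem_rad2 hn
    exact ⟨k, Subgroup.centralizer_le h hk⟩

theorem mem_centralizer_of_mem_rad2 {U : Subgroup L} [U.Normal] {x : L} (hx : x ∈ rad2 U)
    {m : ℕ} (hm : Odd m) (hxm : x ^ m ∈ Subgroup.centralizer (U : Set L)) :
    x ∈ Subgroup.centralizer (U : Set L) := by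
  obtain ⟨k, hk⟩ := exists_pow_mem_of_mem_rad2 hx
  exact mem_of_pow_mem_coprime hxm hk ((Nat.coprime_two_right.2 hm).pow_right k)

/-- A group inducing a 2-group on a nontrivial elementary abelian 2-group has nontrivial fixed
points. -/
theorem inf_centralizer_ne_bot {U R : Subgroup L} [U.Normal] (hU : IsElementaryAbelian 2 U)
    (hne : U ≠ ⊥) (hR : ∀ r ∈ R, ∃ k : ℕ, r ^ 2 ^ k ∈ Subgroup.centralizer (U : Set L)) :
    U ⊓ Subgroup.centralizer (R : Set L) ≠ ⊥ := by
  haveI : Fact (Nat.Prime 2) := ⟨Nat.prime_two⟩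
  set H : Subgroup (MulAut U) := R.map (MulAut.conjNormal : L →* MulAut U) with hH
  have hHp : IsPGroup 2 H := by
    rintro ⟨_, r, hr, rfl⟩
    obtain ⟨k, hk⟩ := hR r hr
    refine ⟨k, Subtype.ext ?_⟩
    show (MulAut.conjNormal r : MulAut U) ^ 2 ^ k = 1
    rw [← map_pow]
    refine MulEquiv.ext fun w => Subtype.ext ?_
    rw [MulAut.conjNormal_apply]
    exact conj_eq_of_mem_centralizer hk w.2
  obtain ⟨n, hn⟩ := IsPGroup.iff_card.1 (CfsgLib.ThompsonJ.isPGroup_of_isElementaryAbelian hU)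
  have h2 : 2 ∣ Nat.card U := by
    rcases n with _ | n
    · exact absurd (Subgroup.eq_bot_of_card_eq _ (by simpa using hn)) hne
    · rw [hn]; exact dvd_pow_self 2 n.succ_ne_zero
  have h1 : (1 : U) ∈ MulAction.fixedPoints H U := fun h => map_one (h : MulAut U)
  obtain ⟨w, hw, hw1⟩ := hHp.exists_fixed_point_of_prime_dvd_card_of_fixed_point U h2 h1
  intro hbot
  have hmem : (w : L) ∈ U ⊓ Subgroup.centralizer (R : Set L) := by
    refine ⟨w.2, Subgroup.mem_centralizer_iff.2 fun r hr => ?_⟩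
    have := congrArg Subtype.val (hw ⟨_, Subgroup.mem_map_of_mem _ hr⟩)
    have h' : r * (w : L) * r⁻¹ = (w : L) := this
    exact mul_inv_eq_iff_eq_mul.1 h'
  rw [hbot, Subgroup.mem_bot] at hmem
  exact hw1 (Subtype.ext hmem.symm)

/-- On a minimal normal elementary abelian subgroup the 2-radical is the centralizer. -/
theorem rad2_le_centralizer_of_minimal {U : Subgroup L} [U.Normal] (hU : IsElementaryAbelian 2 U)
    (hmin : ∀ X : Subgroup L, X.Normal → X ≤ U → X = ⊥ ∨ X = U) :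
    rad2 U ≤ Subgroup.centralizer (U : Set L) := by
  by_cases hne : U = ⊥
  · intro x _
    subst hne
    rw [Subgroup.mem_centralizer_iff]
    intro y hy
    rw [SetLike.mem_coe, Subgroup.mem_bot] at hy
    simp [hy]
  rcases hmin (U ⊓ Subgroup.centralizer (rad2 U : Set L)) inferInstance inf_le_left with h | h
  · exact absurd h (inf_centralizer_ne_bot hU hne fun _ hr => exists_pow_mem_of_mem_rad2 hr)
  · exact Subgroup.le_centralizer_iff.1 (inf_eq_left.1 h)

theorem not_involves_quotient (h4 : ¬ Involves (Equiv.Perm (Fin 4)) L) (N : Subgroup L)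
    [N.Normal] : ¬ Involves (Equiv.Perm (Fin 4)) (L ⧸ N) := fun h =>
  h4 (CfsgLib.Amalgams.involves_of_involves_image
    ((QuotientGroup.mk' N).comp (⊤ : Subgroup L).subtype) h fun q => by
      obtain ⟨g, rfl⟩ := QuotientGroup.mk'_surjective N q
      exact ⟨⟨g, trivial⟩, rfl⟩)

/-- No element acting with order 3 is inverted by an involution. -/
theorem false_of_inverted_three (h4 : ¬ Involves (Equiv.Perm (Fin 4)) L) {T : Subgroup L}
    [T.Normal] (hT : IsPGroup 2 T) {a u : L} (ha : a ^ 2 ∈ Subgroup.centralizer (T : Set L))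
    (hu : u ∉ Subgroup.centralizer (T : Set L)) (hu3 : u ^ 3 ∈ Subgroup.centralizer (T : Set L))
    (hinv : a * u * a⁻¹ * u ∈ Subgroup.centralizer (T : Set L)) : False := by
  haveI : Fact (Nat.Prime 3) := ⟨Nat.prime_three⟩
  set C := Subgroup.centralizer (T : Set L)
  set f := QuotientGroup.mk' C with hf
  have hone : ∀ g, f g = 1 ↔ g ∈ C := fun g => QuotientGroup.eq_one_iff g
  have hb : orderOf (f u) = 3 :=
    orderOf_eq_prime (by rw [← map_pow, hone]; exact hu3) fun h => hu ((hone u).1 h)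
  have hab : f a * f u * (f a)⁻¹ = (f u)⁻¹ := by
    rw [eq_inv_iff_mul_eq_one, ← map_inv, ← map_mul, ← map_mul, ← map_mul, hone]
    exact hinv
  obtain ⟨z, P, i, hz, hP, hzP, hfz, hfP⟩ := CfsgLib.Amalgams.exists_lift_inverts f
    (QuotientGroup.mk'_surjective C) hb (by rw [← map_pow, hone]; exact ha) hab
  obtain ⟨y, hy, hfy⟩ : f u ∈ P.map f := hfP ▸ Subgroup.mem_zpowers _
  refine h4 (CfsgLib.Amalgams.involves_perm_four (T := T) hT hP hz hzP hy ?_ ?_ ?_)
  · exact fun h => hu ((hone u).1 (hfy ▸ (hone y).2 h))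
  · rw [← hone, map_pow, hfy, ← map_pow, hone]; exact hu3
  · rw [← hone, map_mul, map_mul, map_mul, map_inv, hfy, hfz]
    calc f u ^ i * f a * f u * (f u ^ i * f a)⁻¹ * f u
        = f u ^ i * (f a * f u * (f a)⁻¹) * (f u ^ i)⁻¹ * f u := by group
      _ = f u ^ i * (f u)⁻¹ * (f u ^ i)⁻¹ * f u := by rw [hab]
      _ = 1 := by group

theorem pow_conj_eq {W : Subgroup L} (hW : ∀ w ∈ W, w ^ 2 = 1) {v w c : L} (hc : c ∈ W)
    (hvc : v * c * v⁻¹ = c) (hvw : v * w * v⁻¹ = c * w) (n : ℕ) (hn : Odd n)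
    (hfix : v ^ n * w * (v ^ n)⁻¹ = w) : v * w * v⁻¹ = w := by
  have hk : ∀ k : ℕ, v ^ k * w * (v ^ k)⁻¹ = c ^ k * w := by
    intro k
    induction k with
    | zero => simp
    | succ k ih =>
      calc v ^ (k + 1) * w * (v ^ (k + 1))⁻¹ = v * (v ^ k * w * (v ^ k)⁻¹) * v⁻¹ := by
            rw [pow_succ' v k]; group
        _ = (v * c ^ k * v⁻¹) * (v * w * v⁻¹) := by rw [ih]; group
        _ = c ^ k * (c * w) := by rw [← conj_pow, hvc, hvw]
        _ = c ^ (k + 1) * w := by rw [pow_succ, mul_assoc]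
  rw [hk] at hfix
  have h1 : c ^ n = 1 := mul_eq_right.1 hfix
  rw [hvw, pow_eq_one_of_coprime_pow h1 (hW c hc) (Nat.coprime_two_right.2 hn), one_mul]

/-- An element acting with prime order `p ≥ 5` on `W`, inverted by `a`, forces index `≥ 4` of the
fixed points of `a`. -/
theorem four_le_relIndex {W : Subgroup L} (hW : IsElementaryAbelian 2 W) {a v : L}
    (hv : v ∈ Subgroup.normalizer (W : Set L)) (ha : a ∈ Subgroup.normalizer (W : Set L))
    {p : ℕ} (hp : p.Prime) (hp5 : 5 ≤ p) (hvp : v ^ p ∈ Subgroup.centralizer (W : Set L))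
    (hinv : a * v * a⁻¹ * v ∈ Subgroup.centralizer (W : Set L))
    (hnt : v ∉ Subgroup.centralizer (W : Set L)) :
    4 ≤ (W ⊓ Subgroup.centralizer ({a} : Set L)).relIndex W := by
  by_contra hlt
  apply hnt
  haveI : Fact (Nat.Prime 2) := ⟨Nat.prime_two⟩
  set C1 := W ⊓ Subgroup.centralizer ({a} : Set L) with hC1
  have hidx : C1.relIndex W ≤ 2 := by
    obtain ⟨k, hk⟩ :=
      IsPGroup.index (CfsgLib.ThompsonJ.isPGroup_of_isElementaryAbelian hW) (C1.subgroupOf W)
    have hk' : C1.relIndex W = 2 ^ k := hk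
    rw [hk'] at hlt ⊢
    rcases k with _ | _ | k
    · norm_num
    · norm_num
    · exfalso; apply hlt
      calc 4 = 2 ^ 2 := by norm_num
        _ ≤ _ := Nat.pow_le_pow_right (by norm_num) (by omega)
  have hcj : ∀ {g w : L}, g ∈ Subgroup.normalizer (W : Set L) → w ∈ W → g * w * g⁻¹ ∈ W :=
    fun hg hw => (Subgroup.mem_normalizer_iff.1 hg _).1 hw
  set C2 := C1.map (MulAut.conj v).toMonoidHom with hC2
  have hWW : W.map (MulAut.conj v).toMonoidHom = W := Subgroup.mem_normalizer_iff_map_conj_eq.mp hv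
  have hidx2 : C2.relIndex W ≤ 2 := by
    conv_lhs => arg 2; rw [← hWW]
    rw [hC2, Subgroup.relIndex_map_map_of_injective _ _ (MulAut.conj v).injective]
    exact hidx
  set Cv := W ⊓ Subgroup.centralizer ({v} : Set L) with hCv
  have hsub : C1 ⊓ C2 ≤ Cv := by
    rintro w ⟨hw1, c, hc, hcw⟩
    have hcw' : v * c * v⁻¹ = w := hcw
    refine ⟨hw1.1, Subgroup.mem_centralizer_singleton_iff.2 ?_⟩
    have hfa : a * w * a⁻¹ = w := by
      rw [← Subgroup.mem_centralizer_singleton_iff.1 hw1.2, mul_inv_cancel_right]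
    have hca : a * c * a⁻¹ = c := by
      rw [← Subgroup.mem_centralizer_singleton_iff.1 hc.2, mul_inv_cancel_right]
    -- `a v a⁻¹` acts on `W` as `v⁻¹`
    have hact : ∀ t ∈ W, (a * v * a⁻¹) * (v * t * v⁻¹) * (a * v * a⁻¹)⁻¹ = t := by
      intro t ht
      calc (a * v * a⁻¹) * (v * t * v⁻¹) * (a * v * a⁻¹)⁻¹
          = (a * v * a⁻¹ * v) * t * (a * v * a⁻¹ * v)⁻¹ := by group
        _ = t := conj_eq_of_mem_centralizer hinv ht
    have h1 : (a * v * a⁻¹) * w * (a * v * a⁻¹)⁻¹ = c := hcw' ▸ hact c hc.1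
    have h2 : (a * v * a⁻¹) * w * (a * v * a⁻¹)⁻¹ = a * (v * w * v⁻¹) * a⁻¹ := by
      have : a⁻¹ * w * a = w := by
        calc a⁻¹ * w * a = a⁻¹ * (a * w * a⁻¹) * a := by rw [hfa]
          _ = w := by group
      calc (a * v * a⁻¹) * w * (a * v * a⁻¹)⁻¹ = a * v * (a⁻¹ * w * a) * v⁻¹ * a⁻¹ := by group
        _ = a * (v * w * v⁻¹) * a⁻¹ := by rw [this]; group
    have h3 : v * w * v⁻¹ = c := (MulAut.conj a).injective (h2.symm.trans (h1.trans hca.symm))
    have h4 : v ^ 2 * c * (v ^ 2)⁻¹ = c := by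
      calc v ^ 2 * c * (v ^ 2)⁻¹ = v * (v * c * v⁻¹) * v⁻¹ := by rw [pow_two]; group
        _ = c := by rw [hcw', h3]
    have h5 : v ^ p * c * (v ^ p)⁻¹ = c := conj_eq_of_mem_centralizer hvp hc.1
    have h6 : v ∈ Subgroup.centralizer ({c} : Set L) :=
      mem_of_pow_mem_coprime
        (Subgroup.mem_centralizer_singleton_iff.2 (mul_inv_eq_iff_eq_mul.1 h4))
        (Subgroup.mem_centralizer_singleton_iff.2 (mul_inv_eq_iff_eq_mul.1 h5))
        ((Nat.coprime_primes Nat.prime_two hp).2 (by omega))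
    have h7 : v * c * v⁻¹ = c := mul_inv_eq_iff_eq_mul.2 (Subgroup.mem_centralizer_singleton_iff.1 h6)
    have hwc : w = c := hcw'.symm.trans h7
    rw [hwc]
    exact (mul_inv_eq_iff_eq_mul.1 h7).symm
  have hD : Cv.relIndex W ≤ 4 :=
    le_trans (relIndex_le_of_le_left hsub W)
      (le_trans Subgroup.relIndex_inf_le (Nat.mul_le_mul hidx hidx2))
  have hexp : ∀ w ∈ W, w ^ 2 = 1 := hW.2
  refine mem_centralizer_of_conj_eq fun w hw => ?_
  have hWn : ∀ i : ℕ, v ^ i * w * (v ^ i)⁻¹ ∈ W := fun i => hcj (pow_mem hv i) hw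
  haveI : Fintype (W ⧸ Cv.subgroupOf W) := Fintype.ofFinite _
  obtain ⟨i, -, j, -, hij, hq⟩ := Finset.exists_ne_map_eq_of_card_lt_of_maps_to
    (s := (Finset.univ : Finset (Fin 5)))
    (t := (Finset.univ : Finset (W ⧸ Cv.subgroupOf W)))
    (f := fun i : Fin 5 => (QuotientGroup.mk ⟨v ^ (i : ℕ) * w * (v ^ (i : ℕ))⁻¹, hWn i⟩ :
      W ⧸ Cv.subgroupOf W))
    (by
      rw [Finset.card_univ, Finset.card_univ, Fintype.card_fin, ← Nat.card_eq_fintype_card]
      exact Nat.lt_of_le_of_lt hD (by norm_num))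
    (fun i _ => Finset.mem_univ _)
  wlog hlt' : (i : ℕ) < j generalizing i j
  · exact this j i hij.symm hq.symm
      (lt_of_le_of_ne (not_lt.1 hlt') fun h => hij (Fin.ext h.symm))
  obtain ⟨k, hk⟩ : ∃ k, (j : ℕ) = i + (k + 1) := ⟨j - i - 1, by omega⟩
  have hk5 : k + 1 < 5 := by have := j.2; omega
  set d := v ^ (k + 1) with hd
  set w' := v ^ (i : ℕ) * w * (v ^ (i : ℕ))⁻¹ with hw'
  have hcmem : w'⁻¹ * (d * w' * d⁻¹) ∈ Cv := by
    have h0 : (⟨w', hWn i⟩ : W)⁻¹ * ⟨v ^ (j : ℕ) * w * (v ^ (j : ℕ))⁻¹, hWn j⟩ ∈ Cv.subgroupOf W :=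
      QuotientGroup.eq.1 hq
    have h1 : w'⁻¹ * (v ^ (j : ℕ) * w * (v ^ (j : ℕ))⁻¹) ∈ Cv := h0
    have : v ^ (j : ℕ) * w * (v ^ (j : ℕ))⁻¹ = d * w' * d⁻¹ := by
      rw [hk, hw', hd, add_comm, pow_add]; group
    rwa [this] at h1
  set c := w'⁻¹ * (d * w' * d⁻¹) with hc
  have hdc : d * c * d⁻¹ = c := by
    have : v * c * v⁻¹ = c := by
      rw [← Subgroup.mem_centralizer_singleton_iff.1 hcmem.2, mul_inv_cancel_right]
    exact mul_inv_eq_iff_eq_mul.2 (((show Commute v c from mul_inv_eq_iff_eq_mul.1 this).pow_left _).eq)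
  have hdw : d * w' * d⁻¹ = c * w' := by
    rw [CfsgLib.ThompsonJ.isElementaryAbelian_comm hW hcmem.1 (hWn i)]
    exact (mul_inv_cancel_left _ _).symm
  have hpodd : Odd p := hp.odd_of_ne_two (by omega)
  have h8 := pow_conj_eq hexp hcmem.1 hdc hdw p hpodd (by
    rw [hd, ← pow_mul, mul_comm, pow_mul]
    exact conj_eq_of_mem_centralizer (pow_mem hvp _) (hWn i))
  have h9 : d ∈ Subgroup.centralizer ({w} : Set L) := by
    rw [Subgroup.mem_centralizer_singleton_iff]
    have h10 : Commute d (v ^ (i : ℕ)) := ((Commute.refl v).pow_pow _ _)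
    have h11 : d * w * d⁻¹ = w := by
      apply (MulAut.conj (v ^ (i : ℕ))).injective
      rw [MulAut.conj_apply, MulAut.conj_apply, ← hw']
      conv_rhs => rw [← h8]
      calc v ^ (i : ℕ) * (d * w * d⁻¹) * (v ^ (i : ℕ))⁻¹
          = (v ^ (i : ℕ) * d) * w * (v ^ (i : ℕ) * d)⁻¹ := by group
        _ = d * w' * d⁻¹ := by rw [← h10.eq, hw']; group
    exact mul_inv_eq_iff_eq_mul.1 h11
  have h12 : v ^ p ∈ Subgroup.centralizer ({w} : Set L) :=
    Subgroup.mem_centralizer_singleton_iff.2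
      (mul_inv_eq_iff_eq_mul.1 (conj_eq_of_mem_centralizer hvp hw))
  have hcop : (k + 1).Coprime p := (hp.coprime_iff_not_dvd.2 fun hdvd => by
    have := Nat.le_of_dvd (by omega) hdvd; omega).symm
  exact mul_inv_eq_iff_eq_mul.2
    (Subgroup.mem_centralizer_singleton_iff.1 (mem_of_pow_mem_coprime (n := p) h9 h12 hcop))

theorem centralizer_pPrimeCore_le [Group.IsSolvable L] (h : pCore 2 L = ⊥) :
    Subgroup.centralizer (pPrimeCore 2 L : Set L) ≤ pPrimeCore 2 L := by
  have hF : fittingSubgroup L ≤ pPrimeCore 2 L := by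
    rw [CfsgLib.Cores.fittingSubgroup_eq_iSup_pCore]
    refine iSup_le fun q => ?_
    haveI : Fact (q : ℕ).Prime := ⟨Nat.prime_of_mem_primeFactors q.2⟩
    rcases eq_or_ne (q : ℕ) 2 with hq | hq
    · rw [hq, h]; exact bot_le
    · refine CfsgLib.Cores.le_pPrimeCore ?_
      obtain ⟨n, hn⟩ := IsPGroup.iff_card.1 (CfsgLib.Cores.isPGroup_pCore (q : ℕ) L)
      rw [hn]
      exact ((Nat.coprime_primes Fact.out Nat.prime_two).2 hq).pow_left n
  exact (Subgroup.centralizer_le hF).trans (CfsgLib.Cores.centralizer_fittingSubgroup_le.trans hF)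

/-- A hyperplane whose centraliser in an odd-order group is moved, with an inverted element of
prime order. -/
theorem exists_hyperplane_inverted {A O : Subgroup L} (hA : IsElementaryAbelian 2 A)
    (hO : Odd (Nat.card O)) (hAO : A ≤ Subgroup.normalizer (O : Set L))
    (hnt : ¬ A ≤ Subgroup.centralizer (O : Set L)) :
    ∃ (B : Subgroup L) (z x : L) (p : ℕ), B ≤ A ∧ 2 * Nat.card B = Nat.card A ∧ z ∈ A ∧ p.Prime ∧
      p ≠ 2 ∧ x ∈ O ∧ x ∈ Subgroup.centralizer (B : Set L) ∧ orderOf x = p ∧ z * x * z⁻¹ = x⁻¹ := by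
  haveI : Fact (Nat.Prime 2) := ⟨Nat.prime_two⟩
  obtain ⟨B, hBA, hBc, hnle⟩ : ∃ B : Subgroup L, B ≤ A ∧ 2 * Nat.card B = Nat.card A ∧
      ¬ A ≤ Subgroup.centralizer ((O ⊓ Subgroup.centralizer (B : Set L) : Subgroup L) : Set L) := by
    by_cases hA2 : 2 ^ 2 ≤ Nat.card A
    · by_contra hcon
      push Not at hcon
      refine hnt (Subgroup.le_centralizer_iff.1 ?_)
      exact CfsgLib.Signalizer.le_of_hyperplanes hA hA2 hAO
        (fun h => (Nat.not_even_iff_odd.2 hO) (even_iff_two_dvd.2 h))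
        fun B hB hc => Subgroup.le_centralizer_iff.1 (hcon B hB hc)
    · have hne : A ≠ ⊥ := fun h => hnt (h ▸ bot_le)
      have h1 := (Subgroup.one_lt_card_iff_ne_bot A).2 hne
      obtain ⟨n, hn⟩ := IsPGroup.iff_card.1 (CfsgLib.ThompsonJ.isPGroup_of_isElementaryAbelian hA)
      have hn1 : n = 1 := by
        rcases n with _ | _ | n
        · simp [hn] at h1
        · rfl
        · exfalso; apply hA2; rw [hn]
          exact Nat.pow_le_pow_right (by norm_num) (by omega)
      refine ⟨⊥, bot_le, by rw [Subgroup.card_bot, hn, hn1]; rfl, fun h => hnt (h.trans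
        (Subgroup.centralizer_le (le_inf le_rfl fun o _ => Subgroup.mem_centralizer_iff.2 ?_)))⟩
      intro y hy
      rw [SetLike.mem_coe, Subgroup.mem_bot] at hy
      simp [hy]
  obtain ⟨z, hzA, hz⟩ := SetLike.not_le_iff_exists.1 hnle
  rw [Subgroup.mem_centralizer_iff] at hz
  push Not at hz
  obtain ⟨l, hl, hlz⟩ := hz
  have hzz : z * z = 1 := by rw [← pow_two]; exact hA.2 z hzA
  have hzi : z⁻¹ = z := inv_eq_of_mul_eq_one_right hzz
  have hzC : z ∈ Subgroup.centralizer (B : Set L) :=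
    Subgroup.mem_centralizer_iff.2 fun b hb =>
      CfsgLib.ThompsonJ.isElementaryAbelian_comm hA (hBA hb) hzA
  set y := l * (z * l⁻¹ * z⁻¹) with hy
  have hyO : y ∈ O := O.mul_mem hl.1
    ((Subgroup.mem_normalizer_iff.1 (hAO hzA) _).1 (O.inv_mem hl.1))
  have hyC : y ∈ Subgroup.centralizer (B : Set L) :=
    mul_mem hl.2 (mul_mem (mul_mem hzC (inv_mem hl.2)) (inv_mem hzC))
  have hy1 : y ≠ 1 := fun h => hlz (by
    have h2 : z * l⁻¹ * z⁻¹ = l⁻¹ := eq_inv_of_mul_eq_one_right h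
    calc l * z = (z * l⁻¹ * z⁻¹)⁻¹ * z := by rw [h2, inv_inv]
      _ = z * l := by group)
  have hyinv : z * y * z⁻¹ = y⁻¹ := by
    rw [hy]
    simp only [mul_inv_rev, inv_inv, hzi, mul_assoc, hzz, mul_one]
  obtain ⟨p, hp, hpd⟩ := Nat.exists_prime_and_dvd (show orderOf y ≠ 1 by simpa using hy1)
  refine ⟨B, z, y ^ (orderOf y / p), p, hBA, hBc, hzA, hp, ?_, pow_mem hyO _, pow_mem hyC _, ?_, ?_⟩
  · rintro rfl
    exact (Nat.not_even_iff_odd.2 hO)
      (even_iff_two_dvd.2 (hpd.trans (Subgroup.orderOf_dvd_natCard O hyO)))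
  · rw [orderOf_pow_of_dvd (Nat.div_pos (Nat.le_of_dvd (orderOf_pos y) hpd) hp.pos).ne'
      (Nat.div_dvd_of_dvd hpd), Nat.div_div_self hpd (orderOf_pos y).ne']
  · rw [← conj_pow, hyinv, inv_pow]

/-- The data of a faithful action: an element inverted by `a`, commuting with a hyperplane. -/
theorem exists_inverted [Group.IsSolvable L] (h4 : ¬ Involves (Equiv.Perm (Fin 4)) L)
    {U : Subgroup L} [U.Normal] (hU : IsElementaryAbelian 2 U)
    (hR : rad2 U ≤ Subgroup.centralizer (U : Set L)) {A : Subgroup L} (hA : ElemMod A U)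
    (hAC : ¬ A ≤ Subgroup.centralizer (U : Set L)) :
    ∃ (B : Subgroup L) (a v : L) (p : ℕ), B ≤ A ∧ A ⊓ Subgroup.centralizer (U : Set L) ≤ B ∧
      B.relIndex A = 2 ∧ a ∈ A ∧ p.Prime ∧ 5 ≤ p ∧ v ^ p ∈ Subgroup.centralizer (U : Set L) ∧
      a * v * a⁻¹ * v ∈ Subgroup.centralizer (U : Set L) ∧
      v ∉ Subgroup.centralizer (U : Set L) ∧
      ∀ b ∈ B, v * b * v⁻¹ * b⁻¹ ∈ Subgroup.centralizer (U : Set L) := by
  haveI : Fact (Nat.Prime 2) := ⟨Nat.prime_two⟩
  set C := Subgroup.centralizer (U : Set L) with hC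
  set f := QuotientGroup.mk' C with hf
  have hone : ∀ g, f g = 1 ↔ g ∈ C := fun g => QuotientGroup.eq_one_iff g
  have hO2 : pCore 2 (L ⧸ C) = ⊥ := by
    rw [eq_bot_iff]
    intro q hq
    obtain ⟨g, rfl⟩ := QuotientGroup.mk'_surjective C q
    exact Subgroup.mem_bot.2 ((hone g).2 (hR hq))
  set O := pPrimeCore 2 (L ⧸ C) with hO
  have hOodd : Odd (Nat.card O) := Nat.coprime_two_right.1 (CfsgLib.Cores.card_pPrimeCore_coprime 2)
  have hAe : IsElementaryAbelian 2 (A.map f) := by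
    refine CfsgLib.ThompsonJ.isElementaryAbelian_iff.2 ⟨?_, ?_⟩
    · rintro _ ⟨a, ha, rfl⟩
      rw [Subgroup.mem_centralizer_iff]
      rintro _ ⟨b, hb, rfl⟩
      rw [← mul_inv_eq_one, ← map_mul, ← map_mul, ← map_inv, ← map_mul, hone, mul_inv_rev,
        ← mul_assoc]
      exact hA.2 b hb a ha
    · rintro _ ⟨a, ha, rfl⟩
      rw [← map_pow, hone]
      exact hA.1 a ha
  have hAO : A.map f ≤ Subgroup.normalizer (O : Set (L ⧸ C)) := by
    rw [Subgroup.normalizer_eq_top]; exact le_top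
  have hnt : ¬ A.map f ≤ Subgroup.centralizer (O : Set (L ⧸ C)) := by
    intro h
    apply hAC
    intro a ha
    have h1 : f a ∈ O := centralizer_pPrimeCore_le hO2 (h (Subgroup.mem_map_of_mem f ha))
    rw [← hone, ← orderOf_eq_one_iff]
    refine Nat.eq_one_of_dvd_coprimes (Nat.coprime_two_right.2 hOodd)
      (Subgroup.orderOf_dvd_natCard O h1) (orderOf_dvd_of_pow_eq_one ?_)
    exact hAe.2 _ (Subgroup.mem_map_of_mem f ha)
  obtain ⟨B', z, x, p, hB', hcard, ⟨a, ha, rfl⟩, hp, hp2, -, hxB, hxo, hxinv⟩ :=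
    exists_hyperplane_inverted hAe hOodd hAO hnt
  obtain ⟨v, rfl⟩ := QuotientGroup.mk'_surjective C x
  have hvp : v ^ p ∈ C := by rw [← hone, map_pow, ← hxo, pow_orderOf_eq_one]
  have hvinv : a * v * a⁻¹ * v ∈ C := by
    rw [← hone, map_mul, map_mul, map_mul, map_inv, hxinv, inv_mul_cancel]
  have hvC : v ∉ C := fun h => by
    rw [(hone v).2 h, orderOf_one] at hxo
    exact hp.ne_one hxo.symm
  have hp5 : 5 ≤ p := by
    have := hp.two_le
    rcases (show p = 2 ∨ p = 3 ∨ p = 4 ∨ 5 ≤ p by omega) with h | h | h | h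
    · exact absurd h hp2
    · subst h
      exact (false_of_inverted_three h4 (CfsgLib.ThompsonJ.isPGroup_of_isElementaryAbelian hU)
        (hA.1 a ha) hvC hvp hvinv).elim
    · exact absurd (h ▸ hp) (by norm_num)
    · exact h
  refine ⟨A ⊓ B'.comap f, a, v, p, inf_le_left, le_inf inf_le_left ?_, ?_, ha, hp, hp5, hvp, hvinv,
    hvC, fun b hb => ?_⟩
  · intro g hg
    show f g ∈ B'
    rw [(hone g).2 hg.2]
    exact one_mem _
  · rw [Subgroup.inf_relIndex_left, Subgroup.relIndex_comap]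
    have := Subgroup.card_subgroup_dvd_card (B'.subgroupOf (A.map f))
    have h2 : Nat.card B' * B'.relIndex (A.map f) = Nat.card (A.map f) := by
      rw [← Subgroup.relIndex_bot_left, Subgroup.relIndex_mul_relIndex _ _ _ bot_le hB',
        Subgroup.relIndex_bot_left]
    rw [← hcard, mul_comm 2] at h2
    exact Nat.eq_of_mul_eq_mul_left Nat.card_pos h2
  · rw [← hone, map_mul, map_mul, map_mul, map_inv, map_inv,
      show f v * f b = f b * f v from (Subgroup.mem_centralizer_iff.1 hxB _ hb.2).symm,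
      mul_inv_cancel_right, mul_inv_cancel]

/-- An element of odd order modulo `C(U)` commuting with a 2-group of exponent two and fixing its
fixed points fixes `U`. -/
theorem fix_of_fix_inf_centralizer {U : Subgroup L} [U.Normal] (hU : IsElementaryAbelian 2 U)
    {v : L} {n : ℕ} (hn : Odd n) (hvn : v ^ n ∈ Subgroup.centralizer (U : Set L))
    (s : Finset L) (hs2 : ∀ b ∈ s, b ^ 2 ∈ Subgroup.centralizer (U : Set L))
    (hsc : ∀ b ∈ s, ∀ c ∈ s, b * c * b⁻¹ * c⁻¹ ∈ Subgroup.centralizer (U : Set L))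
    (hsv : ∀ b ∈ s, v * b * v⁻¹ * b⁻¹ ∈ Subgroup.centralizer (U : Set L))
    (h : ∀ w ∈ U, (∀ b ∈ s, b * w * b⁻¹ = w) → v * w * v⁻¹ = w) :
    v ∈ Subgroup.centralizer (U : Set L) := by
  classical
  induction s using Finset.induction_on with
  | empty => exact mem_centralizer_of_conj_eq fun w hw => h w hw (by simp)
  | @insert β s hβ ih =>
    refine ih (fun b hb => hs2 b (Finset.mem_insert_of_mem hb))
      (fun b hb c hc => hsc b (Finset.mem_insert_of_mem hb) c (Finset.mem_insert_of_mem hc))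
      (fun b hb => hsv b (Finset.mem_insert_of_mem hb)) fun w hw hws => ?_
    have cj : ∀ g : L, ∀ t ∈ U, g * t * g⁻¹ ∈ U := fun g t ht =>
      (inferInstance : U.Normal).conj_mem t ht g
    have swap : ∀ g g' : L, g * g' * g⁻¹ * g'⁻¹ ∈ Subgroup.centralizer (U : Set L) →
        ∀ t ∈ U, g * (g' * t * g'⁻¹) * g⁻¹ = g' * (g * t * g⁻¹) * g'⁻¹ := by
      intro g g' hgg t ht
      calc g * (g' * t * g'⁻¹) * g⁻¹
          = (g * g' * g⁻¹ * g'⁻¹) * (g' * (g * t * g⁻¹) * g'⁻¹) * (g * g' * g⁻¹ * g'⁻¹)⁻¹ := by group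
        _ = _ := conj_eq_of_mem_centralizer hgg (cj _ _ (cj _ _ ht))
    -- points fixed by `s` are permuted by `β` and `v`
    have fix : ∀ g : L, (∀ b ∈ s, g * b * g⁻¹ * b⁻¹ ∈ Subgroup.centralizer (U : Set L)) →
        ∀ b ∈ s, b * (g * w * g⁻¹) * b⁻¹ = g * w * g⁻¹ := fun g hg b hb => by
      rw [← swap g b (hg b hb) w hw, hws b hb]
    have hβs : ∀ b ∈ s, β * b * β⁻¹ * b⁻¹ ∈ Subgroup.centralizer (U : Set L) := fun b hb =>
      hsc β (Finset.mem_insert_self _ _) b (Finset.mem_insert_of_mem hb)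
    set d := β * w * β⁻¹ * w⁻¹ with hd
    have hdU : d ∈ U := U.mul_mem (cj β w hw) (U.inv_mem hw)
    have hββ : β * (β * w * β⁻¹) * β⁻¹ = w := by
      calc β * (β * w * β⁻¹) * β⁻¹ = β ^ 2 * w * (β ^ 2)⁻¹ := by rw [pow_two]; group
        _ = w := conj_eq_of_mem_centralizer (hs2 β (Finset.mem_insert_self _ _)) hw
    have hβd : β * d * β⁻¹ = d := by
      calc β * d * β⁻¹ = (β * (β * w * β⁻¹) * β⁻¹) * (β * w * β⁻¹)⁻¹ := by rw [hd]; group
        _ = w * (β * w * β⁻¹)⁻¹ := by rw [hββ]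
        _ = d⁻¹ := by rw [hd]; group
        _ = d := inv_eq_of_mul_eq_one_right (by rw [← pow_two]; exact hU.2 d hdU)
    have hvd : v * d * v⁻¹ = d := h d hdU fun b hb => by
      rcases Finset.mem_insert.1 hb with rfl | hb
      · exact hβd
      · calc b * d * b⁻¹ = (b * (β * w * β⁻¹) * b⁻¹) * (b * w * b⁻¹)⁻¹ := by rw [hd]; group
          _ = d := by rw [fix β hβs b hb, hws b hb, hd]
    set e := v * w * v⁻¹ * w⁻¹ with he
    have heU : e ∈ U := U.mul_mem (cj v w hw) (U.inv_mem hw)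
    have hve : v * e * v⁻¹ = e := h e heU fun b hb => by
      rcases Finset.mem_insert.1 hb with rfl | hb
      · calc b * e * b⁻¹ = (b * (v * w * v⁻¹) * b⁻¹) * (b * w * b⁻¹)⁻¹ := by rw [he]; group
          _ = (v * (b * w * b⁻¹) * v⁻¹) * (b * w * b⁻¹)⁻¹ := by
              rw [swap v b (hsv b (Finset.mem_insert_self _ _)) w hw]
          _ = (v * d * v⁻¹) * (v * w * v⁻¹) * (b * w * b⁻¹)⁻¹ := by rw [hd]; group
          _ = (d * (v * w * v⁻¹)) * (b * w * b⁻¹)⁻¹ := by rw [hvd]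
          _ = ((v * w * v⁻¹) * d) * (b * w * b⁻¹)⁻¹ := by
              rw [CfsgLib.ThompsonJ.isElementaryAbelian_comm hU hdU (cj v w hw)]
          _ = (v * w * v⁻¹) * ((b * w * b⁻¹)⁻¹ * d) := by
              rw [mul_assoc, CfsgLib.ThompsonJ.isElementaryAbelian_comm hU hdU (U.inv_mem (cj b w hw))]
          _ = e := by rw [hd, he]; group
      · calc b * e * b⁻¹ = (b * (v * w * v⁻¹) * b⁻¹) * (b * w * b⁻¹)⁻¹ := by rw [he]; group
          _ = e := by rw [fix v (fun c hc => hsv c (Finset.mem_insert_of_mem hc)) b hb, hws b hb, he]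
    exact pow_conj_eq hU.2 heU hve (by rw [he]; group) n hn (conj_eq_of_mem_centralizer hvn hw)

/-- The basic step: a hyperplane whose fixed points gain index at least four. -/
theorem exists_step [Group.IsSolvable L] (h4 : ¬ Involves (Equiv.Perm (Fin 4)) L)
    {U : Subgroup L} [U.Normal] (hU : IsElementaryAbelian 2 U)
    (hR : rad2 U ≤ Subgroup.centralizer (U : Set L)) {A : Subgroup L} (hA : ElemMod A U)
    (hAC : ¬ A ≤ Subgroup.centralizer (U : Set L)) :
    ∃ B : Subgroup L, B ≤ A ∧ A ⊓ Subgroup.centralizer (U : Set L) ≤ B ∧ B.relIndex A = 2 ∧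
      4 * fixIdx B U ≤ fixIdx A U := by
  classical
  obtain ⟨B, a, v, p, hBA, hCB, hidx, ha, hp, hp5, hvp, hvinv, hvC, hvB⟩ :=
    exists_inverted h4 hU hR hA hAC
  refine ⟨B, hBA, hCB, hidx, ?_⟩
  set W := U ⊓ Subgroup.centralizer (B : Set L) with hW
  have cj : ∀ g : L, ∀ t ∈ U, g * t * g⁻¹ ∈ U := fun g t ht =>
    (inferInstance : U.Normal).conj_mem t ht g
  have hnorm : ∀ g : L, (∀ b ∈ B, g * b * g⁻¹ * b⁻¹ ∈ Subgroup.centralizer (U : Set L)) →
      g ∈ Subgroup.normalizer (W : Set L) := by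
    intro g hg
    refine CfsgLib.CoprimeAction.mem_normalizer_of_conj_mem fun t ht => ⟨cj g t ht.1, ?_⟩
    refine Subgroup.mem_centralizer_iff.2 fun b hb => mul_inv_eq_iff_eq_mul.1 ?_
    calc b * (g * t * g⁻¹) * b⁻¹
        = (g * b * g⁻¹ * b⁻¹)⁻¹ * (g * (b * t * b⁻¹) * g⁻¹) * (g * b * g⁻¹ * b⁻¹) := by group
      _ = (g * b * g⁻¹ * b⁻¹)⁻¹ * (g * t * g⁻¹) * ((g * b * g⁻¹ * b⁻¹)⁻¹)⁻¹ := by
          rw [Subgroup.mem_centralizer_iff.1 ht.2 b hb, mul_inv_cancel_right, inv_inv]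
      _ = g * t * g⁻¹ := conj_eq_of_mem_centralizer (inv_mem (hg b hb)) (cj g t ht.1)
  have hnt : v ∉ Subgroup.centralizer (W : Set L) := by
    intro hvW
    haveI := Fintype.ofFinite B
    refine hvC (fix_of_fix_inf_centralizer hU (hp.odd_of_ne_two (by omega)) hvp
      (Finset.univ.image fun b : B => (b : L)) ?_ ?_ ?_ ?_)
    · simp only [Finset.mem_image, Finset.mem_univ, true_and]
      rintro _ ⟨b, rfl⟩; exact hA.1 _ (hBA b.2)
    · simp only [Finset.mem_image, Finset.mem_univ, true_and]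
      rintro _ ⟨b, rfl⟩ _ ⟨c, rfl⟩; exact hA.2 _ (hBA b.2) _ (hBA c.2)
    · simp only [Finset.mem_image, Finset.mem_univ, true_and]
      rintro _ ⟨b, rfl⟩; exact hvB _ b.2
    · intro w hw hb
      refine conj_eq_of_mem_centralizer hvW ⟨hw, Subgroup.mem_centralizer_iff.2 fun b hbB => ?_⟩
      exact mul_inv_eq_iff_eq_mul.1 (hb b (Finset.mem_image.2 ⟨⟨b, hbB⟩, Finset.mem_univ _, rfl⟩))
  have h4' := four_le_relIndex (CfsgLib.ThompsonJ.isElementaryAbelian_mono hU inf_le_left)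
    (hnorm v hvB) (hnorm a fun b hb => hA.2 a ha b (hBA hb)) hp hp5
    (Subgroup.centralizer_le inf_le_left hvp) (Subgroup.centralizer_le inf_le_left hvinv) hnt
  have hle : U ⊓ Subgroup.centralizer (A : Set L) ≤ W ⊓ Subgroup.centralizer ({a} : Set L) :=
    le_inf (inf_le_inf_left U (Subgroup.centralizer_le hBA))
      (inf_le_right.trans (Subgroup.centralizer_le (Set.singleton_subset_iff.2 ha)))
  calc 4 * fixIdx B U ≤ (W ⊓ Subgroup.centralizer ({a} : Set L)).relIndex W * W.relIndex U :=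
        Nat.mul_le_mul h4' le_rfl
    _ = (W ⊓ Subgroup.centralizer ({a} : Set L)).relIndex U :=
        Subgroup.relIndex_mul_relIndex _ _ _ inf_le_left inf_le_left
    _ ≤ fixIdx A U := relIndex_le_of_le_left hle U

/-- Faithful case: the squared offender bound. -/
theorem sq_actCard_le_fixIdx [Group.IsSolvable L] (h4 : ¬ Involves (Equiv.Perm (Fin 4)) L)
    {U : Subgroup L} [U.Normal] (hU : IsElementaryAbelian 2 U)
    (hR : rad2 U ≤ Subgroup.centralizer (U : Set L)) :
    ∀ A : Subgroup L, ElemMod A U → actCard A U ^ 2 ≤ fixIdx A U := by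
  intro A
  induction A using WellFoundedLT.induction with
  | _ A ih =>
  intro hA
  by_cases hAC : A ≤ Subgroup.centralizer (U : Set L)
  · rw [actCard, inf_eq_left.2 hAC, Subgroup.relIndex_self, one_pow]
    exact fixIdx_pos A U
  · obtain ⟨B, hBA, hCB, hidx, h4'⟩ := exists_step h4 hU hR hA hAC
    have hlt : B < A := lt_of_le_of_ne hBA fun h => by
      rw [h, Subgroup.relIndex_self] at hidx; omega
    calc actCard A U ^ 2 = 4 * actCard B U ^ 2 := by rw [← actCard_mul hBA hCB, hidx]; ring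
      _ ≤ 4 * fixIdx B U := Nat.mul_le_mul le_rfl (ih B hlt (hA.mono hBA))
      _ ≤ fixIdx A U := h4'

/-- Faithful case: extremal groups contain an element whose fixed points have index `≤ 4`. -/
theorem exists_small_fixIdx [Group.IsSolvable L] (h4 : ¬ Involves (Equiv.Perm (Fin 4)) L)
    {U : Subgroup L} [U.Normal] (hU : IsElementaryAbelian 2 U)
    (hR : rad2 U ≤ Subgroup.centralizer (U : Set L)) :
    ∀ A : Subgroup L, ElemMod A U → ¬ A ≤ Subgroup.centralizer (U : Set L) →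
      fixIdx A U ≤ actCard A U ^ 2 →
      ∃ a ∈ A, a ∉ Subgroup.centralizer (U : Set L) ∧ fixIdx (Subgroup.zpowers a) U ≤ 4 := by
  intro A
  induction A using WellFoundedLT.induction with
  | _ A ih =>
  intro hA hAC hext
  obtain ⟨B, hBA, hCB, hidx, h4'⟩ := exists_step h4 hU hR hA hAC
  have hext' : fixIdx A U ≤ 4 * actCard B U ^ 2 := by
    refine hext.trans (le_of_eq ?_); rw [← actCard_mul hBA hCB, hidx]; ring
  by_cases hBC : B ≤ Subgroup.centralizer (U : Set L)
  · have h1 : actCard B U = 1 := by rw [actCard, inf_eq_left.2 hBC, Subgroup.relIndex_self]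
    rw [h1] at hext'
    obtain ⟨a, ha, haC⟩ := SetLike.not_le_iff_exists.1 hAC
    exact ⟨a, ha, haC, (fixIdx_le_of_le (Subgroup.zpowers_le.2 ha)).trans (by simpa using hext')⟩
  · have hlt : B < A := lt_of_le_of_ne hBA fun h => by
      rw [h, Subgroup.relIndex_self] at hidx; omega
    obtain ⟨a, ha, h1, h2⟩ := ih B hlt (hA.mono hBA) hBC
      (Nat.le_of_mul_le_mul_left (h4'.trans hext') (by norm_num))
    exact ⟨a, hBA ha, h1, h2⟩

theorem fixIdx_map_mul_le {U W : Subgroup L} [W.Normal] (hU : IsElementaryAbelian 2 U) (hW : W ≤ U)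
    (A : Subgroup L) :
    fixIdx (A.map (QuotientGroup.mk' W)) (U.map (QuotientGroup.mk' W)) * fixIdx A W ≤ fixIdx A U := by
  unfold fixIdx
  set q := QuotientGroup.mk' W with hq
  set C0 := U ⊓ Subgroup.centralizer (A : Set L) with hC0
  have h1 : C0.relIndex (C0 ⊔ W) = (W ⊓ Subgroup.centralizer (A : Set L)).relIndex W := by
    rw [relIndex_sup_eq (hW.trans (le_normalizer_of_elem hU inf_le_left)),
      ← Subgroup.inf_relIndex_left, ← inf_assoc, inf_eq_left.2 hW]
  have h2 : (C0 ⊔ W).relIndex U = ((C0 ⊔ W).map q).relIndex (U.map q) := by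
    rw [← Subgroup.relIndex_comap, hq, Subgroup.comap_map_eq_self]
    rw [QuotientGroup.ker_mk']; exact le_sup_right
  have h3 : (C0 ⊔ W).map q ≤ U.map q ⊓ Subgroup.centralizer (A.map q : Set (L ⧸ W)) := by
    refine le_inf (Subgroup.map_mono (sup_le inf_le_left hW)) ?_
    rw [Subgroup.map_sup, hq, QuotientGroup.map_mk'_self, sup_bot_eq]
    rintro _ ⟨c, hc, rfl⟩
    rw [Subgroup.mem_centralizer_iff]
    rintro _ ⟨a, ha, rfl⟩
    rw [← map_mul, ← map_mul, Subgroup.mem_centralizer_iff.1 hc.2 a ha]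
  calc (U.map q ⊓ Subgroup.centralizer (A.map q : Set (L ⧸ W))).relIndex (U.map q) *
        (W ⊓ Subgroup.centralizer (A : Set L)).relIndex W
      ≤ (C0 ⊔ W).relIndex U * C0.relIndex (C0 ⊔ W) := by
        rw [h1, h2]
        exact Nat.mul_le_mul (relIndex_le_of_le_left h3 _) le_rfl
    _ = C0.relIndex U := by
        rw [mul_comm]
        exact Subgroup.relIndex_mul_relIndex _ _ _ le_sup_left (sup_le inf_le_left hW)

/-- The squared offender bound modulo the 2-radical. -/
theorem sq_relIndex_rad2_le : ∀ (n : ℕ) (L : Type u) [Group L] [Finite L] [Group.IsSolvable L],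
    ¬ Involves (Equiv.Perm (Fin 4)) L → ∀ (U : Subgroup L) [U.Normal],
      Nat.card U ≤ n → IsElementaryAbelian 2 U → ∀ A : Subgroup L, ElemMod A U →
        (A ⊓ rad2 U).relIndex A ^ 2 ≤ fixIdx A U := by
  intro n
  induction n with
  | zero => intro L _ _ _ _ U _ hc; exact absurd hc (not_le.2 Nat.card_pos)
  | succ n ih =>
    intro L _ _ _ h4 U _ hcard hU A hA
    by_cases hR : rad2 U ≤ Subgroup.centralizer (U : Set L)
    · rw [le_antisymm hR (centralizer_le_rad2 U)]
      exact sq_actCard_le_fixIdx h4 hU hR A hA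
    set U1 := U ⊓ Subgroup.centralizer (rad2 U : Set L) with hU1
    haveI hU1n : U1.Normal := inferInstance
    have hU1lt : U1 < U := lt_of_le_of_ne inf_le_left fun h =>
      hR (Subgroup.le_centralizer_iff.1 (inf_eq_left.1 h))
    have hUne : U ≠ ⊥ := fun h => by rw [h] at hU1lt; exact not_lt_bot hU1lt
    have hU1ne : U1 ≠ ⊥ := inf_centralizer_ne_bot hU hUne fun _ hr => exists_pow_mem_of_mem_rad2 hr
    have hc1 : Nat.card U1 ≤ n := by
      have : Nat.card U1 < Nat.card U := by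
        by_contra hle
        exact hU1lt.ne (Subgroup.eq_of_le_of_card_ge inf_le_left (not_lt.1 hle))
      omega
    set q := QuotientGroup.mk' U1 with hq
    haveI : (U.map q).Normal := Subgroup.Normal.map inferInstance q (QuotientGroup.mk'_surjective _)
    have hc2 : Nat.card (U.map q) ≤ n := by
      have h1 : Nat.card U1 * U1.relIndex U = Nat.card U := by
        rw [← Subgroup.relIndex_bot_left, Subgroup.relIndex_mul_relIndex _ _ _ bot_le inf_le_left,
          Subgroup.relIndex_bot_left]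
      have h2 : U1.relIndex U = Nat.card (U.map q) := by
        conv_lhs => rw [← QuotientGroup.ker_mk' U1]
        rw [Subgroup.relIndex_ker]
      have h3 : 1 < Nat.card U1 := (Subgroup.one_lt_card_iff_ne_bot U1).2 hU1ne
      have h4' : 0 < Nat.card (U.map q) := Nat.card_pos
      have : Nat.card (U.map q) < Nat.card U := by
        rw [← h1, h2]; exact lt_mul_of_one_lt_left h4' h3
      omega
    have b1 := ih L h4 U1 hc1 (CfsgLib.ThompsonJ.isElementaryAbelian_mono hU inf_le_left) A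
      (hA.of_le inf_le_left)
    have b2 := ih (L ⧸ U1) (not_involves_quotient h4 U1) (U.map q) hc2
      (CfsgLib.ThompsonJ.isElementaryAbelian_map hU q) (A.map q) (hA.map q)
    set R2 := (rad2 (U.map q)).comap q with hR2
    haveI : R2.Normal := Subgroup.Normal.comap inferInstance q
    have hsub : rad2 U1 ⊓ R2 ≤ rad2 U := by
      refine le_rad2 fun m hm => ?_
      obtain ⟨i, hi⟩ := exists_pow_mem_of_mem_rad2 hm.1
      obtain ⟨j, hj⟩ := exists_pow_mem_of_mem_rad2 (Subgroup.mem_comap.1 hm.2)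
      refine ⟨i + j + 1, ?_⟩
      have h1 : m ^ 2 ^ (i + j) ∈ Subgroup.centralizer (U1 : Set L) := by
        rw [pow_add, pow_mul]; exact pow_mem hi _
      have h2 : q (m ^ 2 ^ (i + j)) ∈ Subgroup.centralizer (U.map q : Set (L ⧸ U1)) := by
        rw [map_pow, add_comm i j, pow_add, pow_mul]; exact pow_mem hj _
      rw [pow_succ, pow_mul]
      refine sq_mem_centralizer (N₀ := U1) (fun w hw => hU.2 w hw.1) h1 fun w hw => ?_
      rw [← QuotientGroup.eq_one_iff]
      show q (m ^ 2 ^ (i + j) * w * (m ^ 2 ^ (i + j))⁻¹ * w⁻¹) = 1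
      rw [map_mul, map_mul, map_mul, map_inv, map_inv,
        conj_eq_of_mem_centralizer h2 (Subgroup.mem_map_of_mem q hw), mul_inv_cancel]
    have hA2 : (A.map q ⊓ rad2 (U.map q)).relIndex (A.map q) = (A ⊓ R2).relIndex A := by
      rw [Subgroup.inf_relIndex_left, Subgroup.inf_relIndex_left, hR2, Subgroup.relIndex_comap]
    rw [hA2] at b2
    have h1 : (A ⊓ rad2 U).relIndex A ≤ (A ⊓ rad2 U1).relIndex A * (A ⊓ R2).relIndex A := by
      refine le_trans (relIndex_le_of_le_left ?_ A) Subgroup.relIndex_inf_le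
      exact le_inf (inf_le_left.trans inf_le_left)
        ((inf_le_inf inf_le_right inf_le_right).trans hsub)
    calc (A ⊓ rad2 U).relIndex A ^ 2 ≤ ((A ⊓ rad2 U1).relIndex A * (A ⊓ R2).relIndex A) ^ 2 :=
          Nat.pow_le_pow_left h1 2
      _ = (A ⊓ R2).relIndex A ^ 2 * (A ⊓ rad2 U1).relIndex A ^ 2 := by ring
      _ ≤ fixIdx (A.map q) (U.map q) * fixIdx A U1 := Nat.mul_le_mul b2 b1
      _ ≤ fixIdx A U := fixIdx_map_mul_le hU inf_le_left A

/-- The squared bound passes to joins: the chain argument. -/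
theorem sq_actCard_le_of_family {E : Subgroup L} (s : Finset (Subgroup L))
    (hU : IsElementaryAbelian 2 (s.sup id))
    (h : ∀ V ∈ s, ∀ B ≤ E, actCard B V ^ 2 ≤ fixIdx B V) :
    ∀ B ≤ E, actCard B (s.sup id) ^ 2 ≤ fixIdx B (s.sup id) := by
  classical
  induction s using Finset.induction_on with
  | empty =>
    intro B _
    have : B ≤ Subgroup.centralizer (((∅ : Finset (Subgroup L)).sup id : Subgroup L) : Set L) := by
      intro b _
      rw [Subgroup.mem_centralizer_iff]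
      intro y hy
      rw [SetLike.mem_coe, Finset.sup_empty, Subgroup.mem_bot] at hy
      simp [hy]
    rw [actCard, inf_eq_left.2 this, Subgroup.relIndex_self, one_pow]
    exact fixIdx_pos _ _
  | @insert V s hV ih =>
    intro B hB
    set U0 := s.sup id with hU0
    have hins : (insert V s).sup id = U0 ⊔ V := by rw [Finset.sup_insert, sup_comm]; rfl
    rw [hins] at hU ⊢
    have hU0e := CfsgLib.ThompsonJ.isElementaryAbelian_mono hU (le_sup_left : U0 ≤ U0 ⊔ V)
    have hb0 := ih hU0e (fun W hW => h W (Finset.mem_insert_of_mem hW)) B hB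
    set B' := B ⊓ Subgroup.centralizer (U0 : Set L) with hB'
    have hbV := h V (Finset.mem_insert_self _ _) B' (inf_le_left.trans hB)
    have hcent : Subgroup.centralizer ((U0 ⊔ V : Subgroup L) : Set L) =
        Subgroup.centralizer (U0 : Set L) ⊓ Subgroup.centralizer (V : Set L) := by
      refine le_antisymm (le_inf (Subgroup.centralizer_le (SetLike.coe_subset_coe.2 le_sup_left))
        (Subgroup.centralizer_le (SetLike.coe_subset_coe.2 le_sup_right))) ?_
      exact Subgroup.le_centralizer_iff.1 (sup_le (Subgroup.le_centralizer_iff.1 inf_le_left)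
        (Subgroup.le_centralizer_iff.1 inf_le_right))
    have hact : actCard B (U0 ⊔ V) = actCard B' V * actCard B U0 := by
      unfold actCard
      rw [hcent, ← inf_assoc]
      exact (Subgroup.relIndex_mul_relIndex _ _ _ inf_le_left inf_le_left).symm
    set C0 := (U0 ⊔ V) ⊓ Subgroup.centralizer (B : Set L) with hC0
    have h1 : C0.relIndex (C0 ⊔ U0) = fixIdx B U0 := by
      rw [relIndex_sup_eq (le_sup_left.trans (le_normalizer_of_elem hU inf_le_left)),
        ← Subgroup.inf_relIndex_left, ← inf_assoc, inf_eq_left.2 (le_sup_left : U0 ≤ U0 ⊔ V)]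
      rfl
    set D := (U0 ⊔ V) ⊓ Subgroup.centralizer (B' : Set L) with hD
    have hD0 : U0 ≤ D := le_inf le_sup_left (Subgroup.le_centralizer_iff.1 inf_le_right)
    have hle : C0 ⊔ U0 ≤ D :=
      sup_le (inf_le_inf_left _ (Subgroup.centralizer_le inf_le_left)) hD0
    have h2 : fixIdx B' V ≤ (C0 ⊔ U0).relIndex (U0 ⊔ V) := by
      refine le_trans (le_of_eq ?_) (relIndex_le_of_le_left hle _)
      have hdv : D ⊔ V = U0 ⊔ V :=
        le_antisymm (sup_le inf_le_left le_sup_right) (sup_le_sup_right hD0 V)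
      rw [← hdv, relIndex_sup_eq (le_sup_right.trans (le_normalizer_of_elem hU inf_le_left)),
        ← Subgroup.inf_relIndex_left, ← inf_assoc, inf_eq_left.2 (le_sup_right : V ≤ U0 ⊔ V)]
      rfl
    calc actCard B (U0 ⊔ V) ^ 2 = actCard B' V ^ 2 * actCard B U0 ^ 2 := by rw [hact]; ring
      _ ≤ (C0 ⊔ U0).relIndex (U0 ⊔ V) * C0.relIndex (C0 ⊔ U0) := by
          rw [h1]; exact Nat.mul_le_mul (hbV.trans h2) hb0
      _ = fixIdx B (U0 ⊔ V) := by
          rw [mul_comm, fixIdx, ← hC0]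
          exact Subgroup.relIndex_mul_relIndex _ _ _ le_sup_left (sup_le inf_le_left le_sup_left)

end Finite

end CfsgLib.SFourFree
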